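import Cfsg.Agent.OD.Pre
import Cfsg.Agent.H6.LyS.C
set_option autoImplicit false
set_option maxRecDepth 100000
set_option Elab.async false
set_option linter.all false
namespace CfH6.LyS
open CfH6
noncomputable def p11X : ℕ := spread 15 4 11 (nat_lit 0x302014020422440210013332014403431303311000210134241400302011011421230331120101232131442203401221321224023244021104340034424414033330021041044320331213343311213140014223301204332320314020434122334423024212142324202030242142402434124132232322210341414433211430410413102312304114000341010414444004333131234441404231000022424102404230410011412041430332440241404423021321214411244324210243123221404114004004123132223323420132240110403112004202221301112331203142300401141311401220231112144444201401240121230212411212443333111342044123012231024103004040342314124301120300444003244000113122113023102213231213021303432212220213344042444032223102214301043004143013103044104412443104240203110331113112343303221323333410344421102301012032442444421134124133302423002430014122133222103402411330341400221214034202304000112403411022343401320134330434333404331444440301434231200112320132024042234433223104323210214331312022144241123440142323003014001232320133232312121201123243044422042242322130302041211320014401401004422344231223122130113110411011300313412412120342004044223140033403302443141130421114043031421400444002141013000000000000000000000000000000000000000000000000000000000000000000000000000000000000000000000000001000000000000)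
end CfH6.LyS
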