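import Cfsg.Agent.OD.Pre
import Cfsg.Agent.H6.LyS.p3_0
import Cfsg.Agent.H6.LyS.p3_1
import Cfsg.Agent.H6.LyS.p3_2
import Cfsg.Agent.H6.LyS.p3_3
import Cfsg.Agent.H6.LyS.p3_4
set_option autoImplicit false
set_option maxRecDepth 100000
set_option Elab.async false
set_option linter.all false
namespace CfH6.LyS
open CfH6
theorem p3h0 : ∀ c ∈ [p3o0, p3o1, p3o2, p3o3, p3o4, p3o5, p3o6, p3o7, p3o8, p3o9, p3o10, p3o11, p3o12, p3o13, p3o14, p3o15, p3o16, p3o17, p3o18, p3o19], InR LyM.ok LyM.sem LyM.φ.range c := by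
  have := LyM.D.slp_outs (forall_app (forall_nil) cols) _ [(51, p3o0), (50, p3o1), (49, p3o2), (48, p3o3), (47, p3o4), (46, p3o5), (45, p3o6), (44, p3o7), (37, p3o8), (36, p3o9), (29, p3o10), (25, p3o11), (24, p3o12), (23, p3o13), (19, p3o14), (18, p3o15), (17, p3o16), (16, p3o17), (15, p3o18), (0, p3o19)] p3b0
  simp only [List.map_cons, List.map_nil] at this
  exact this
theorem ip3o0 : InR LyM.ok LyM.sem LyM.φ.range p3o0 := p3h0 _ (List.Mem.head _)
theorem ip3o1 : InR LyM.ok LyM.sem LyM.φ.range p3o1 := p3h0 _ (List.Mem.tail _ (List.Mem.head _))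
theorem ip3o2 : InR LyM.ok LyM.sem LyM.φ.range p3o2 := p3h0 _ (List.Mem.tail _ (List.Mem.tail _ (List.Mem.head _)))
theorem ip3o3 : InR LyM.ok LyM.sem LyM.φ.range p3o3 := p3h0 _ (List.Mem.tail _ (List.Mem.tail _ (List.Mem.tail _ (List.Mem.head _))))
theorem ip3o4 : InR LyM.ok LyM.sem LyM.φ.range p3o4 := p3h0 _ (List.Mem.tail _ (List.Mem.tail _ (List.Mem.tail _ (List.Mem.tail _ (List.Mem.head _)))))
theorem ip3o5 : InR LyM.ok LyM.sem LyM.φ.range p3o5 := p3h0 _ (List.Mem.tail _ (List.Mem.tail _ (List.Mem.tail _ (List.Mem.tail _ (List.Mem.tail _ (List.Mem.head _))))))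
theorem ip3o6 : InR LyM.ok LyM.sem LyM.φ.range p3o6 := p3h0 _ (List.Mem.tail _ (List.Mem.tail _ (List.Mem.tail _ (List.Mem.tail _ (List.Mem.tail _ (List.Mem.tail _ (List.Mem.head _)))))))
theorem ip3o7 : InR LyM.ok LyM.sem LyM.φ.range p3o7 := p3h0 _ (List.Mem.tail _ (List.Mem.tail _ (List.Mem.tail _ (List.Mem.tail _ (List.Mem.tail _ (List.Mem.tail _ (List.Mem.tail _ (List.Mem.head _))))))))
theorem ip3o8 : InR LyM.ok LyM.sem LyM.φ.range p3o8 := p3h0 _ (List.Mem.tail _ (List.Mem.tail _ (List.Mem.tail _ (List.Mem.tail _ (List.Mem.tail _ (List.Mem.tail _ (List.Mem.tail _ (List.Mem.tail _ (List.Mem.head _)))))))))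
theorem ip3o9 : InR LyM.ok LyM.sem LyM.φ.range p3o9 := p3h0 _ (List.Mem.tail _ (List.Mem.tail _ (List.Mem.tail _ (List.Mem.tail _ (List.Mem.tail _ (List.Mem.tail _ (List.Mem.tail _ (List.Mem.tail _ (List.Mem.tail _ (List.Mem.head _))))))))))
theorem ip3o10 : InR LyM.ok LyM.sem LyM.φ.range p3o10 := p3h0 _ (List.Mem.tail _ (List.Mem.tail _ (List.Mem.tail _ (List.Mem.tail _ (List.Mem.tail _ (List.Mem.tail _ (List.Mem.tail _ (List.Mem.tail _ (List.Mem.tail _ (List.Mem.tail _ (List.Mem.head _)))))))))))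
theorem ip3o11 : InR LyM.ok LyM.sem LyM.φ.range p3o11 := p3h0 _ (List.Mem.tail _ (List.Mem.tail _ (List.Mem.tail _ (List.Mem.tail _ (List.Mem.tail _ (List.Mem.tail _ (List.Mem.tail _ (List.Mem.tail _ (List.Mem.tail _ (List.Mem.tail _ (List.Mem.tail _ (List.Mem.head _))))))))))))
theorem ip3o12 : InR LyM.ok LyM.sem LyM.φ.range p3o12 := p3h0 _ (List.Mem.tail _ (List.Mem.tail _ (List.Mem.tail _ (List.Mem.tail _ (List.Mem.tail _ (List.Mem.tail _ (List.Mem.tail _ (List.Mem.tail _ (List.Mem.tail _ (List.Mem.tail _ (List.Mem.tail _ (List.Mem.tail _ (List.Mem.head _)))))))))))))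
theorem ip3o13 : InR LyM.ok LyM.sem LyM.φ.range p3o13 := p3h0 _ (List.Mem.tail _ (List.Mem.tail _ (List.Mem.tail _ (List.Mem.tail _ (List.Mem.tail _ (List.Mem.tail _ (List.Mem.tail _ (List.Mem.tail _ (List.Mem.tail _ (List.Mem.tail _ (List.Mem.tail _ (List.Mem.tail _ (List.Mem.tail _ (List.Mem.head _))))))))))))))
theorem ip3o14 : InR LyM.ok LyM.sem LyM.φ.range p3o14 := p3h0 _ (List.Mem.tail _ (List.Mem.tail _ (List.Mem.tail _ (List.Mem.tail _ (List.Mem.tail _ (List.Mem.tail _ (List.Mem.tail _ (List.Mem.tail _ (List.Mem.tail _ (List.Mem.tail _ (List.Mem.tail _ (List.Mem.tail _ (List.Mem.tail _ (List.Mem.tail _ (List.Mem.head _)))))))))))))))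
theorem ip3o15 : InR LyM.ok LyM.sem LyM.φ.range p3o15 := p3h0 _ (List.Mem.tail _ (List.Mem.tail _ (List.Mem.tail _ (List.Mem.tail _ (List.Mem.tail _ (List.Mem.tail _ (List.Mem.tail _ (List.Mem.tail _ (List.Mem.tail _ (List.Mem.tail _ (List.Mem.tail _ (List.Mem.tail _ (List.Mem.tail _ (List.Mem.tail _ (List.Mem.tail _ (List.Mem.head _))))))))))))))))
theorem ip3o16 : InR LyM.ok LyM.sem LyM.φ.range p3o16 := p3h0 _ (List.Mem.tail _ (List.Mem.tail _ (List.Mem.tail _ (List.Mem.tail _ (List.Mem.tail _ (List.Mem.tail _ (List.Mem.tail _ (List.Mem.tail _ (List.Mem.tail _ (List.Mem.tail _ (List.Mem.tail _ (List.Mem.tail _ (List.Mem.tail _ (List.Mem.tail _ (List.Mem.tail _ (List.Mem.tail _ (List.Mem.head _)))))))))))))))))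
theorem ip3o17 : InR LyM.ok LyM.sem LyM.φ.range p3o17 := p3h0 _ (List.Mem.tail _ (List.Mem.tail _ (List.Mem.tail _ (List.Mem.tail _ (List.Mem.tail _ (List.Mem.tail _ (List.Mem.tail _ (List.Mem.tail _ (List.Mem.tail _ (List.Mem.tail _ (List.Mem.tail _ (List.Mem.tail _ (List.Mem.tail _ (List.Mem.tail _ (List.Mem.tail _ (List.Mem.tail _ (List.Mem.tail _ (List.Mem.head _))))))))))))))))))
theorem ip3o18 : InR LyM.ok LyM.sem LyM.φ.range p3o18 := p3h0 _ (List.Mem.tail _ (List.Mem.tail _ (List.Mem.tail _ (List.Mem.tail _ (List.Mem.tail _ (List.Mem.tail _ (List.Mem.tail _ (List.Mem.tail _ (List.Mem.tail _ (List.Mem.tail _ (List.Mem.tail _ (List.Mem.tail _ (List.Mem.tail _ (List.Mem.tail _ (List.Mem.tail _ (List.Mem.tail _ (List.Mem.tail _ (List.Mem.tail _ (List.Mem.head _)))))))))))))))))))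
theorem ip3o19 : InR LyM.ok LyM.sem LyM.φ.range p3o19 := p3h0 _ (List.Mem.tail _ (List.Mem.tail _ (List.Mem.tail _ (List.Mem.tail _ (List.Mem.tail _ (List.Mem.tail _ (List.Mem.tail _ (List.Mem.tail _ (List.Mem.tail _ (List.Mem.tail _ (List.Mem.tail _ (List.Mem.tail _ (List.Mem.tail _ (List.Mem.tail _ (List.Mem.tail _ (List.Mem.tail _ (List.Mem.tail _ (List.Mem.tail _ (List.Mem.tail _ (List.Mem.head _))))))))))))))))))))
theorem p3h1 : ∀ c ∈ [p3o20, p3o21, p3o22, p3o23, p3o24, p3o25, p3o26, p3o27], InR LyM.ok LyM.sem LyM.φ.range c := by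
  have := LyM.D.slp_outs (forall_app (forall_cons ip3o0 (forall_cons ip3o1 (forall_cons ip3o2 (forall_cons ip3o3 (forall_cons ip3o4 (forall_cons ip3o5 (forall_cons ip3o6 (forall_cons ip3o7 (forall_cons ip3o8 (forall_cons ip3o9 (forall_cons ip3o10 (forall_cons ip3o11 (forall_cons ip3o12 (forall_cons ip3o13 (forall_cons ip3o14 (forall_cons ip3o15 (forall_cons ip3o16 (forall_cons ip3o17 (forall_cons ip3o18 (forall_cons ip3o19 (forall_nil))))))))))))))))))))) cols) _ [(61, p3o20), (60, p3o21), (59, p3o22), (44, p3o23), (37, p3o24), (22, p3o25), (15, p3o26), (0, p3o27)] p3b1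
  simp only [List.map_cons, List.map_nil] at this
  exact this
theorem ip3o20 : InR LyM.ok LyM.sem LyM.φ.range p3o20 := p3h1 _ (List.Mem.head _)
theorem ip3o21 : InR LyM.ok LyM.sem LyM.φ.range p3o21 := p3h1 _ (List.Mem.tail _ (List.Mem.head _))
theorem ip3o22 : InR LyM.ok LyM.sem LyM.φ.range p3o22 := p3h1 _ (List.Mem.tail _ (List.Mem.tail _ (List.Mem.head _)))
theorem ip3o23 : InR LyM.ok LyM.sem LyM.φ.range p3o23 := p3h1 _ (List.Mem.tail _ (List.Mem.tail _ (List.Mem.tail _ (List.Mem.head _))))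
theorem ip3o24 : InR LyM.ok LyM.sem LyM.φ.range p3o24 := p3h1 _ (List.Mem.tail _ (List.Mem.tail _ (List.Mem.tail _ (List.Mem.tail _ (List.Mem.head _)))))
theorem ip3o25 : InR LyM.ok LyM.sem LyM.φ.range p3o25 := p3h1 _ (List.Mem.tail _ (List.Mem.tail _ (List.Mem.tail _ (List.Mem.tail _ (List.Mem.tail _ (List.Mem.head _))))))
theorem ip3o26 : InR LyM.ok LyM.sem LyM.φ.range p3o26 := p3h1 _ (List.Mem.tail _ (List.Mem.tail _ (List.Mem.tail _ (List.Mem.tail _ (List.Mem.tail _ (List.Mem.tail _ (List.Mem.head _)))))))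
theorem ip3o27 : InR LyM.ok LyM.sem LyM.φ.range p3o27 := p3h1 _ (List.Mem.tail _ (List.Mem.tail _ (List.Mem.tail _ (List.Mem.tail _ (List.Mem.tail _ (List.Mem.tail _ (List.Mem.tail _ (List.Mem.head _))))))))
theorem p3h2 : ∀ c ∈ [p3o28, p3o29, p3o30, p3o31, p3o32, p3o33, p3o34, p3o35, p3o36, p3o37, p3o38, p3o39, p3o40, p3o41, p3o42], InR LyM.ok LyM.sem LyM.φ.range c := by
  have := LyM.D.slp_outs (forall_app (forall_cons ip3o8 (forall_cons ip3o9 (forall_cons ip3o10 (forall_cons ip3o13 (forall_cons ip3o14 (forall_cons ip3o15 (forall_cons ip3o16 (forall_cons ip3o17 (forall_cons ip3o18 (forall_cons ip3o19 (forall_cons ip3o20 (forall_cons ip3o21 (forall_cons ip3o22 (forall_cons ip3o23 (forall_cons ip3o24 (forall_cons ip3o25 (forall_cons ip3o26 (forall_cons ip3o27 (forall_nil))))))))))))))))))) cols) _ [(47, p3o28), (46, p3o29), (45, p3o30), (44, p3o31), (43, p3o32), (42, p3o33), (41, p3o34), (40, p3o35), (36, p3o36), (28,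 p3o37), (27, p3o38), (18, p3o39), (9, p3o40), (8, p3o41), (0, p3o42)] p3b2
  simp only [List.map_cons, List.map_nil] at this
  exact this
theorem ip3o28 : InR LyM.ok LyM.sem LyM.φ.range p3o28 := p3h2 _ (List.Mem.head _)
theorem ip3o29 : InR LyM.ok LyM.sem LyM.φ.range p3o29 := p3h2 _ (List.Mem.tail _ (List.Mem.head _))
theorem ip3o30 : InR LyM.ok LyM.sem LyM.φ.range p3o30 := p3h2 _ (List.Mem.tail _ (List.Mem.tail _ (List.Mem.head _)))
theorem ip3o31 : InR LyM.ok LyM.sem LyM.φ.range p3o31 := p3h2 _ (List.Mem.tail _ (List.Mem.tail _ (List.Mem.tail _ (List.Mem.head _))))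
theorem ip3o32 : InR LyM.ok LyM.sem LyM.φ.range p3o32 := p3h2 _ (List.Mem.tail _ (List.Mem.tail _ (List.Mem.tail _ (List.Mem.tail _ (List.Mem.head _)))))
theorem ip3o33 : InR LyM.ok LyM.sem LyM.φ.range p3o33 := p3h2 _ (List.Mem.tail _ (List.Mem.tail _ (List.Mem.tail _ (List.Mem.tail _ (List.Mem.tail _ (List.Mem.head _))))))
theorem ip3o34 : InR LyM.ok LyM.sem LyM.φ.range p3o34 := p3h2 _ (List.Mem.tail _ (List.Mem.tail _ (List.Mem.tail _ (List.Mem.tail _ (List.Mem.tail _ (List.Mem.tail _ (List.Mem.head _)))))))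
theorem ip3o35 : InR LyM.ok LyM.sem LyM.φ.range p3o35 := p3h2 _ (List.Mem.tail _ (List.Mem.tail _ (List.Mem.tail _ (List.Mem.tail _ (List.Mem.tail _ (List.Mem.tail _ (List.Mem.tail _ (List.Mem.head _))))))))
theorem ip3o36 : InR LyM.ok LyM.sem LyM.φ.range p3o36 := p3h2 _ (List.Mem.tail _ (List.Mem.tail _ (List.Mem.tail _ (List.Mem.tail _ (List.Mem.tail _ (List.Mem.tail _ (List.Mem.tail _ (List.Mem.tail _ (List.Mem.head _)))))))))
theorem ip3o37 : InR LyM.ok LyM.sem LyM.φ.range p3o37 := p3h2 _ (List.Mem.tail _ (List.Mem.tail _ (List.Mem.tail _ (List.Mem.tail _ (List.Mem.tail _ (List.Mem.tail _ (List.Mem.tail _ (List.Mem.tail _ (List.Mem.tail _ (List.Mem.head _))))))))))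
theorem ip3o38 : InR LyM.ok LyM.sem LyM.φ.range p3o38 := p3h2 _ (List.Mem.tail _ (List.Mem.tail _ (List.Mem.tail _ (List.Mem.tail _ (List.Mem.tail _ (List.Mem.tail _ (List.Mem.tail _ (List.Mem.tail _ (List.Mem.tail _ (List.Mem.tail _ (List.Mem.head _)))))))))))
theorem ip3o39 : InR LyM.ok LyM.sem LyM.φ.range p3o39 := p3h2 _ (List.Mem.tail _ (List.Mem.tail _ (List.Mem.tail _ (List.Mem.tail _ (List.Mem.tail _ (List.Mem.tail _ (List.Mem.tail _ (List.Mem.tail _ (List.Mem.tail _ (List.Mem.tail _ (List.Mem.tail _ (List.Mem.head _))))))))))))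
theorem ip3o40 : InR LyM.ok LyM.sem LyM.φ.range p3o40 := p3h2 _ (List.Mem.tail _ (List.Mem.tail _ (List.Mem.tail _ (List.Mem.tail _ (List.Mem.tail _ (List.Mem.tail _ (List.Mem.tail _ (List.Mem.tail _ (List.Mem.tail _ (List.Mem.tail _ (List.Mem.tail _ (List.Mem.tail _ (List.Mem.head _)))))))))))))
theorem ip3o41 : InR LyM.ok LyM.sem LyM.φ.range p3o41 := p3h2 _ (List.Mem.tail _ (List.Mem.tail _ (List.Mem.tail _ (List.Mem.tail _ (List.Mem.tail _ (List.Mem.tail _ (List.Mem.tail _ (List.Mem.tail _ (List.Mem.tail _ (List.Mem.tail _ (List.Mem.tail _ (List.Mem.tail _ (List.Mem.tail _ (List.Mem.head _))))))))))))))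
theorem ip3o42 : InR LyM.ok LyM.sem LyM.φ.range p3o42 := p3h2 _ (List.Mem.tail _ (List.Mem.tail _ (List.Mem.tail _ (List.Mem.tail _ (List.Mem.tail _ (List.Mem.tail _ (List.Mem.tail _ (List.Mem.tail _ (List.Mem.tail _ (List.Mem.tail _ (List.Mem.tail _ (List.Mem.tail _ (List.Mem.tail _ (List.Mem.tail _ (List.Mem.head _)))))))))))))))
theorem p3h3 : ∀ c ∈ [p3o43, p3o44, p3o45, p3o46], InR LyM.ok LyM.sem LyM.φ.range c := by
  have := LyM.D.slp_outs (forall_app (forall_cons ip3o9 (forall_cons ip3o28 (forall_cons ip3o29 (forall_cons ip3o30 (forall_cons ip3o31 (forall_cons ip3o32 (forall_cons ip3o33 (forall_cons ip3o34 (forall_cons ip3o35 (forall_cons ip3o36 (forall_cons ip3o37 (forall_cons ip3o38 (forall_cons ip3o39 (forall_cons ip3o40 (forall_cons ip3o41 (forall_cons ip3o42 (forall_nil))))))))))))))))) cols) _ [(43, p3o43), (27, p3o44), (15, p3o45), (0, p3o46)] p3b3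
  simp only [List.map_cons, List.map_nil] at this
  exact this
theorem ip3o43 : InR LyM.ok LyM.sem LyM.φ.range p3o43 := p3h3 _ (List.Mem.head _)
theorem ip3o44 : InR LyM.ok LyM.sem LyM.φ.range p3o44 := p3h3 _ (List.Mem.tail _ (List.Mem.head _))
theorem ip3o45 : InR LyM.ok LyM.sem LyM.φ.range p3o45 := p3h3 _ (List.Mem.tail _ (List.Mem.tail _ (List.Mem.head _)))
theorem ip3o46 : InR LyM.ok LyM.sem LyM.φ.range p3o46 := p3h3 _ (List.Mem.tail _ (List.Mem.tail _ (List.Mem.tail _ (List.Mem.head _))))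
theorem p3 : 2187 ∣ Nat.card LyM.φ.range := MP.slp_dvd LyM.D (forall_app (forall_cons ip3o36 (forall_cons ip3o43 (forall_cons ip3o44 (forall_cons ip3o45 (forall_cons ip3o46 (forall_nil)))))) cols) _ _ _ _ _ p3b4
end CfH6.LyS
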