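import Cfsg.Agent.OD.Pre
import Cfsg.Agent.H6.LyS.C
set_option autoImplicit false
set_option maxRecDepth 100000
set_option Elab.async false
set_option linter.all false
namespace CfH6.LyS
open CfH6
noncomputable def p31X : ℕ := spread 15 4 12 (Tr.cat (Tr.n (Tr.l (nat_lit 0x23330143100022320012212034002301413144301200230423121132433310331212134334110211012301024411321201412220103120102144412144114211421233323301222434133202012302212240441332141143443003043024031240433230012140401410101213330031023103303211431442104124113041001223304013411421230033333322223142242312143402243124014010444032012340300043230113431413222133241142124103404444123424043100333412113432301023030334414412011402433421131403000314213111300122233234112342321302340423444040402212421322004224333004440022100320331404002324030212111043213424100202021430141124013030314310000004341131040313400044340211310314304310110140324133021001133333130314404111400202301240304104104443432222200240311110434421314414103230411212233411031003020020033440202044042343130123443324134030403244244004200141310102320010231302120441110441141012242412343333301413304440023102340414432113232213111030121121201304034401003321322423230431010144014041221014004213143104233424213104402043331230141221034032124234244201134421131341000300301101332403240323414021203424441034333304143202344143104240344020324001212000023004320402203110100010412234231121402042401444343323200241210140120140020034234110232122432331024244222134000242400421220433321441002044013344133134010012210324401402432111034012442422314343342022443343011202410213243313411404442103443434324024410442300244221431344133042040414134041402021242340204230431023103320204323302342012323341312413224304003143311230303434440420331224222210102220014401040204322411322042243212124221443334014412132143130403101422414021313233414220401311011323241114421443224421240101240402344323124310000210111230213142424301110210002030210343113420414000320241021323341322402113330233031121431340320331110104321300242001334030120040112243231023203331022201410110220424012340103013443000123010244030043423014343223022414023020413242002100232202031030141123201110311110311432042303022344001203331440104410203331320024443120000000000000000000000000000000000000000000000000000000000000000000001000000000000000000000000000000000000000000))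
 (Tr.l (nat_lit 0x312411233303342330044034223302304110040044223410431031314200444032040234142334102121031411024141120304044023130201310141420420042404410030202031044304430211203223232343301103401340023133120434241011004301130414041104044211422112444313342042031310424241002211404112300342312324223003004431430202343101322031441042144230444123324400113013234230114103023320040142231443013100343024422401212431012401342011111320303330211311241323042130241401312330021212202343201013230113243342421011031400320104402201230412323433024000432012221033220334433443112121301223142313240132044231334010404101100032014300032420343024421312221402420010301402003044410300232320030121314433344004441043422031222300224014144301233320234432101141303444313224421033122414334141423431011311210443044013210010230001242103340324300340134142414312023112000132234401134210022310002331414201341143240312244044232411334221301001340234412221231133320344004431114304014343300212434220032401131424121421420114421021200022341021431220043402333201141304034404011303440110340224140242220314104113310300133113204130232021120222311103321400440223230431044424223104400112301113041241203102141323123400422414044134313102201121314301003342001202124343400432330344131400431414040210203110404324241401241224333413420221313121214021240240224134141011001433322114224401120144420020331241432033334414201221413334121420242243421223233234303003414104))) (nat_lit 8192))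
end CfH6.LyS
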