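import Cfsg.Agent.OD.Pre
import Cfsg.Agent.H6.LyS.C
set_option autoImplicit false
set_option maxRecDepth 100000
set_option Elab.async false
set_option linter.all false
namespace CfH6.LyS
open CfH6
noncomputable def p7X : ℕ := spread 15 4 10 (nat_lit 0x423401114043413230243034131313204113010400221020044321140340144124303342022204310240403210042210404022234130130140302410304443422234122032322340414242411333102403404023100224023030020422001010242221040043142224130331040211021321240304002031213001131303142303200010313431313230333004131204111121002213120100131042333133413442021022443444333204040411202424400343222421404232330203010003322222401002411342213234132111444233143431122440104313042300043044041113424443411201012302240300422440432230214231032112420020220243200011044424022344100442321021302100404331203003422031030004104131123322440401121341211122013040424332211341200013423143423434314012144141034234021133000000000000000000000000000000000000000000000000000000000000000000000000000100000000000000000000000000000000000)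
end CfH6.LyS
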